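import Cfsg.Statements.S0188
import Cfsg.Agent.Lib.Ind.PermLemma

set_option autoImplicit false
open Cfsg

namespace Cfsg.Agent.S0188

open Cfsg.Agent.Char Cfsg.Agent.Ind
open scoped ComplexConjugate

theorem isIrr_prod {G H : Type*} [Group G] [Finite G] [Group H] [Finite H] {φ : G → ℂ} {ψ : H → ℂ}
    (hφ : IsIrrCharacter G φ) (hψ : IsIrrCharacter H ψ) :
    IsIrrCharacter (G × H) (fun x => φ x.1 * ψ x.2) := by
  have := Fintype.ofFinite G
  have := Fintype.ofFinite H
  refine isIrr_of_isChar_of_inner_self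
    (isChar_mul (isChar_comp (isChar_of_isIrr hφ) (MonoidHom.fst G H))
      (isChar_comp (isChar_of_isIrr hψ) (MonoidHom.snd G H))) ?_
  have h1 := sum_mul_conj_of_isIrr hφ
  have h2 := sum_mul_conj_of_isIrr hψ
  rw [classInner, Fintype.sum_prod_type, Nat.card_prod, Nat.cast_mul]
  have : ∑ x : G, ∑ y : H, φ x * ψ y * conj (φ x * ψ y) = (Nat.card G : ℂ) * Nat.card H := by
    rw [← h1, ← h2, Finset.sum_mul_sum]
    refine Finset.sum_congr rfl fun x _ => Finset.sum_congr rfl fun y _ => ?_
    rw [map_mul]; ring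
  rw [this]
  exact inv_mul_cancel₀ (mul_ne_zero (card_ne_zero' G) (card_ne_zero' H))

/-- The irreducible complex characters of G × H are precisely the functions (g, h) ↦ φ g * ψ h with φ, ψ irreducible characters of G and H. -/
theorem result {G : Type*} [Group G] [Finite G] {H : Type*} [Group H] [Finite H] (θ : G × H → ℂ) : Cfsg.IsIrrCharacter (G × H) θ ↔ ∃ (φ : G → ℂ) (ψ : H → ℂ), Cfsg.IsIrrCharacter G φ ∧ Cfsg.IsIrrCharacter H ψ ∧ θ = fun x => φ x.1 * ψ x.2 := by
  have := Fintype.ofFinite G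
  have := Fintype.ofFinite H
  constructor
  · intro hθ
    have h1 : regChar (G × H) = ∑ φ : IrrCharacter G, ∑ ψ : IrrCharacter H,
        ((φ : G → ℂ) 1 * (ψ : H → ℂ) 1) • fun x : G × H => (φ : G → ℂ) x.1 * (ψ : H → ℂ) x.2 := by
      ext ⟨g, h⟩
      have : regChar (G × H) (g, h) = regChar G g * regChar H h := by
        by_cases hg : g = 1
        · by_cases hh : h = 1
          · subst hg hh
            rw [regChar_one, regChar_one, ← Nat.cast_mul, ← Nat.card_prod]
            exact regChar_one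
          · rw [regChar_of_ne hh, mul_zero, regChar_of_ne]
            simp [hh]
        · rw [regChar_of_ne hg, zero_mul, regChar_of_ne]
          simp [hg]
      rw [this, ← sum_irr_apply_one_mul, ← sum_irr_apply_one_mul, Finset.sum_mul_sum]
      simp only [Finset.sum_apply, Pi.smul_apply, smul_eq_mul]
      refine Finset.sum_congr rfl fun x _ => Finset.sum_congr rfl fun y _ => by ring
    have h2 := inner_regChar_left θ
    rw [h1, Ind.inner_sum_left, conj_apply_one_of_isChar (isChar_of_isIrr hθ)] at h2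
    obtain ⟨φ, -, h3⟩ := Finset.exists_ne_zero_of_sum_ne_zero
      (h2 ▸ apply_one_ne_zero_of_isIrr hθ)
    rw [Ind.inner_sum_left] at h3
    obtain ⟨ψ, -, h4⟩ := Finset.exists_ne_zero_of_sum_ne_zero h3
    rw [Ind.inner_smul_left] at h4
    exact ⟨φ, ψ, φ.2, ψ.2,
      (eq_of_inner_ne_zero (isIrr_prod φ.2 ψ.2) hθ (right_ne_zero_of_mul h4)).symm⟩
  · rintro ⟨φ, ψ, hφ, hψ, rfl⟩
    exact isIrr_prod hφ hψ

end Cfsg.Agent.S0188
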