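import Cfsg.Statements.S1249
import Cfsg.Agent.Lib.Transfer.Invol

set_option autoImplicit false
open Cfsg

namespace Cfsg.Agent.S1249



/-- Let P and Q be Sylow p-subgroups of the finite group G both containing the subgroup A. If A is strongly closed in P, then A is strongly closed in Q. -/
theorem result {G : Type*} [Group G] [Finite G] {p : ℕ} [Fact p.Prime] (P Q : Sylow p G) (A : Subgroup G) (hAQ : A ≤ Q) (hA : Cfsg.IsStronglyClosed A (P : Subgroup G)) : Cfsg.IsStronglyClosed A (Q : Subgroup G) := by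
  obtain ⟨x, -, hx⟩ := (Tr.SylowIn.top P).exists_cj_eq (Tr.SylowIn.top Q)
  have h1 : x ∈ Subgroup.normalizer (A : Set G) := Tr.mem_normalizer_of_forall fun a ha =>
    hA.2 a ha x (hx ▸ Tr.conj_mem_cj.2 (hAQ ha))
  refine ⟨hAQ, fun a ha g hg => ?_⟩
  have h2 : x * (g * a * g⁻¹) * x⁻¹ ∈ (P : Subgroup G) := hx ▸ Tr.conj_mem_cj.2 hg
  have e : x * (g * a * g⁻¹) * x⁻¹ = (x * g) * a * (x * g)⁻¹ := by group
  have h3 := hA.2 a ha (x * g) (e ▸ h2)
  rw [← e] at h3
  exact (Subgroup.mem_normalizer_iff.1 h1 _).2 h3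

end Cfsg.Agent.S1249
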