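import Cfsg.Statements.S1250
import Cfsg.Agent.Lib.Transfer.Invol

set_option autoImplicit false
open Cfsg

namespace Cfsg.Agent.S1250



/-- Let S be a Sylow p-subgroup of the finite group G, A ≤ S strongly closed in S, and N a normal subgroup. Then the image of A in G ⧸ N is strongly closed in the image of S (which is a Sylow p-subgroup of G ⧸ N). -/
theorem result {G : Type*} [Group G] [Finite G] {p : ℕ} [Fact p.Prime] (S : Sylow p G) (A : Subgroup G) (hA : Cfsg.IsStronglyClosed A (S : Subgroup G)) (N : Subgroup G) [N.Normal] : Cfsg.IsStronglyClosed (A.map (QuotientGroup.mk' N)) ((S : Subgroup G).map (QuotientGroup.mk' N)) := by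
  refine ⟨Subgroup.map_mono hA.1, ?_⟩
  rintro _ ⟨a, ha, rfl⟩ y hy
  obtain ⟨g, rfl⟩ := QuotientGroup.mk'_surjective N y
  rw [← map_inv, ← map_mul, ← map_mul] at hy ⊢
  have h1 : g * a * g⁻¹ ∈ (S : Subgroup G) ⊔ N := by
    have := Subgroup.mem_comap.2 hy
    rwa [Subgroup.comap_map_eq, QuotientGroup.ker_mk'] at this
  obtain ⟨k, hk⟩ := Tr.isPGroup_iff_forall_mem.1 S.isPGroup' a (hA.1 ha)
  obtain ⟨x, hx, hxS⟩ := (Tr.SylowIn.of_sylow_le S (le_sup_left (b := N))).exists_conj_mem h1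
    (k := k) (by rw [conj_pow, hk]; simp)
  obtain ⟨s, hs, n, hn, rfl⟩ :=
    (Tr.mem_sup_of_le_normalizer (Subgroup.le_normalizer_of_normal)).1 hx
  have h2 : (n * g) * a * (n * g)⁻¹ ∈ (S : Subgroup G) := by
    have := mul_mem (mul_mem (inv_mem hs) hxS) hs
    simpa [mul_assoc] using this
  refine ⟨_, hA.2 a ha _ h2, ?_⟩
  have h3 : QuotientGroup.mk' N n = 1 := (QuotientGroup.eq_one_iff n).2 hn
  simp only [map_mul, map_inv, h3, one_mul]

end Cfsg.Agent.S1250
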