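import Cfsg.Statements.S1251
import Cfsg.Agent.Lib.Transfer.ZCor
import Cfsg.Agent.S1249
import Cfsg.Agent.S1250
import Cfsg.Agent.Lib.Rank2.Struct
import Cfsg.Agent.Lib.TwoGrp.QDGroup

set_option autoImplicit false
open Cfsg

namespace Cfsg.Agent.S1251

open Subgroup

theorem core {G : Type*} [Group G] [Finite G] (S : Sylow 2 G) (A : Subgroup G)
    (hA : IsStronglyClosed A (S : Subgroup G)) (H : Subgroup G) [H.Normal]
    (hG : ∀ g : G, ∃ h ∈ H, ∃ a ∈ A, g = h * a) (hO : pPrimeCore 2 H = ⊥) (hdisj : A ⊓ H = ⊥)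
    (hne : A ≠ ⊥) : ∃ z ∈ A, z ≠ 1 ∧ z ∈ center G := by
  have hAp : IsPGroup 2 A := S.isPGroup'.to_le hA.1
  have hO' : pPrimeCore 2 G = ⊥ := by
    have h1 : pPrimeCore 2 G ≤ H := fun x hx => by
      obtain ⟨h, hh, a, ha, rfl⟩ := hG x
      obtain ⟨k, hk⟩ := Tr.isPGroup_iff_forall_mem.1 hAp a ha
      have h2 : QuotientGroup.mk' H h = 1 := (QuotientGroup.eq_one_iff h).2 hh
      have h3 : orderOf (QuotientGroup.mk' H (h * a)) ∣ 2 ^ k := by
        rw [orderOf_dvd_iff_pow_eq_one, map_mul, h2, one_mul, ← map_pow, hk, map_one]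
      have h4 : orderOf (QuotientGroup.mk' H (h * a)) ∣ Nat.card (pPrimeCore 2 G) :=
        (orderOf_map_dvd _ _).trans (orderOf_dvd_natCard _ hx)
      have h5 := Nat.eq_one_of_dvd_coprimes
        ((Fit.coprime_card_pPrimeCore 2 G).pow_right k) h4 h3
      exact (QuotientGroup.eq_one_iff _).1 (orderOf_eq_one_iff.1 h5)
    have h2 := Fit.map_pPrimeCore_subtype_eq (p := 2) H
    rw [hO, Subgroup.map_bot, inf_of_le_left h1] at h2
    exact h2.symm
  obtain ⟨z, hz, hz1, -, hzc⟩ := Tr.exists_central_involution' hAp hne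
  refine ⟨z, hz, hz1, Tr.le_center_of_isolated hO' S (A := A ⊓ centralizer (A : Set G))
    (inf_le_left.trans hA.1) ?_ ⟨hz, fun g hg => hzc g hg⟩⟩
  intro a ha g hg
  have h1 := hA.2 a ha.1 g hg
  obtain ⟨h, hh, b, hb, rfl⟩ := hG g
  have h2 : h * b * a * (h * b)⁻¹ = h * a * h⁻¹ := by
    rw [mul_assoc h, ha.2 b hb]; group
  rw [h2] at h1 ⊢
  have h3 : h * a * h⁻¹ * a⁻¹ ∈ A ⊓ H := mem_inf.2 ⟨mul_mem h1 (A.inv_mem ha.1), by
    have := mul_mem hh (Normal.conj_mem inferInstance _ (inv_mem hh) a)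
    simpa only [mul_assoc] using this⟩
  rw [hdisj, mem_bot, mul_inv_eq_one] at h3
  exact h3

theorem main {G : Type*} [Group G] [Finite G] (S : Sylow 2 G) (A : Subgroup G)
    (hA : IsStronglyClosed A (S : Subgroup G)) (H : Subgroup G) [H.Normal]
    (hG : ∀ g : G, ∃ h ∈ H, ∃ a ∈ A, g = h * a) (hO : pPrimeCore 2 H = ⊥) (hdisj : A ⊓ H = ⊥) :
    A ≤ centralizer (H : Set G) := by
  obtain ⟨C, hC⟩ : ∃ C, C = A ⊓ centralizer (H : Set G) := ⟨_, rfl⟩
  have hCA : C ≤ A := hC ▸ inf_le_left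
  have hCH : ∀ x ∈ C, x ∈ H → x = 1 := fun x hx hx' => by
    rw [← mem_bot, ← hdisj]; exact ⟨hCA hx, hx'⟩
  have : C.Normal := ⟨fun x hx g => by
    obtain ⟨h, hh, b, hb, rfl⟩ := hG g
    have h1 : b * x * b⁻¹ ∈ C := by
      rw [hC] at hx ⊢
      exact mem_inf.2 ⟨mul_mem (mul_mem hb hx.1) (inv_mem hb),
        Normal.conj_mem (normal_centralizer (H := H)) _ hx.2 b⟩
    have h2 : h * b * x * (h * b)⁻¹ = h * (b * x * b⁻¹) * h⁻¹ := by group
    have h3 : b * x * b⁻¹ ∈ centralizer (H : Set G) := (hC.le.trans inf_le_right) h1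
    rw [h2, h3 h hh]
    simpa using h1⟩
  obtain ⟨T, hT⟩ := (Tr.sylowIn_map_mk S C).exists_sylow
  have : (H.map (QuotientGroup.mk' C)).Normal :=
    Normal.map inferInstance _ (QuotientGroup.mk'_surjective C)
  by_contra hne
  obtain ⟨_, ⟨z, hz, rfl⟩, hz1, hzc⟩ := core T (A.map (QuotientGroup.mk' C))
    (hT ▸ Cfsg.Agent.S1250.result S A hA C) (H.map (QuotientGroup.mk' C)) (fun g => by
      obtain ⟨g, rfl⟩ := QuotientGroup.mk'_surjective C g
      obtain ⟨h, hh, b, hb, rfl⟩ := hG g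
      exact ⟨_, mem_map_of_mem _ hh, _, mem_map_of_mem _ hb, map_mul _ _ _⟩) (by
      obtain ⟨e⟩ := TwoGrp.nonempty_equiv_map (QuotientGroup.mk' C) H (by
        rw [QuotientGroup.ker_mk', disjoint_def]
        exact fun hx hx' => hCH _ hx' hx)
      rw [← Fit.map_pPrimeCore_equiv e, hO, Subgroup.map_bot]) (by
      rw [eq_bot_iff]
      rintro _ ⟨⟨a, ha, rfl⟩, h, hh, e⟩
      have h1 : h⁻¹ * a ∈ C := QuotientGroup.eq.1 e
      have h2 : h ∈ A ⊓ H := ⟨by simpa using mul_mem ha (inv_mem (hCA h1)), hh⟩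
      rw [hdisj, mem_bot] at h2
      rw [← e, h2, map_one]
      exact one_mem _) (by
      rw [Ne, Subgroup.map_eq_bot_iff, QuotientGroup.ker_mk']
      exact fun h => hne (h.trans (hC ▸ inf_le_right)))
  refine hz1 ((QuotientGroup.eq_one_iff z).2 ?_)
  rw [hC]
  refine ⟨hz, fun h hh => ?_⟩
  have h1 : h * z * h⁻¹ * z⁻¹ ∈ C := by
    rw [← QuotientGroup.eq_one_iff]
    change QuotientGroup.mk' C _ = 1
    simp only [map_mul, map_inv]
    rw [mem_center_iff.1 hzc]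
    group
  have h2 := hCH _ h1 (by
    have := mul_mem hh (Normal.conj_mem inferInstance _ (inv_mem hh) z)
    simpa only [mul_assoc] using this)
  rwa [mul_inv_eq_one, mul_inv_eq_iff_eq_mul] at h2

/-- Let S be a Sylow 2-subgroup of the finite group G and A ≤ S strongly closed in S. If H is a subgroup normalized by A with no nontrivial normal subgroup of odd order and A ∩ H = 1, then A ≤ C_G(H). -/
theorem result {G : Type*} [Group G] [Finite G] (S : Sylow 2 G) (A : Subgroup G) (hA : Cfsg.IsStronglyClosed A (S : Subgroup G)) (H : Subgroup G) (hAH : A ≤ Subgroup.normalizer (H : Set G)) (hO : Cfsg.oddCore ↥H = ⊥) (hdisj : A ⊓ H = ⊥) : A ≤ Subgroup.centralizer (H : Set G) := by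
  have hAp : IsPGroup 2 A := S.isPGroup'.to_le hA.1
  obtain ⟨X, hX⟩ : ∃ X, X = H ⊔ A := ⟨_, rfl⟩
  have hHX : H ≤ X := hX ▸ le_sup_left
  have hAX : A ≤ X := hX ▸ le_sup_right
  have : (H.subgroupOf X).Normal := normal_subgroupOf_of_le_normalizer
    (hX ▸ sup_le le_normalizer hAH)
  obtain ⟨T, hT⟩ := (hAp.comap_subtype (K := X)).exists_le_sylow
  obtain ⟨Q, hQ⟩ := (T.isPGroup'.map X.subtype).exists_le_sylow
  have hAQ : A ≤ Q := fun a ha => hQ ⟨⟨a, hAX ha⟩, hT ha, rfl⟩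
  have hA' := Cfsg.Agent.S1249.result S Q A hAQ hA
  have := main T (A.subgroupOf X) ⟨hT, fun a ha g hg => hA'.2 a ha g (hQ ⟨_, hg, rfl⟩)⟩
    (H.subgroupOf X) (fun g => by
      obtain ⟨a, ha, h, hh, e⟩ := (Tr.mem_sup_of_le_normalizer hAH).1
        (show (g : G) ∈ A ⊔ H by rw [sup_comm, ← hX]; exact g.2)
      refine ⟨⟨a * h * a⁻¹, hHX (Tr.conj_mem_of_mem_normalizer (hAH ha) hh)⟩,
        Tr.conj_mem_of_mem_normalizer (hAH ha) hh, ⟨a, hAX ha⟩, ha, Subtype.ext ?_⟩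
      simp [← e]) (by
      rw [← Fit.map_pPrimeCore_equiv (subgroupOfEquivOfLe hHX).symm, show pPrimeCore 2 H = ⊥ from hO,
        Subgroup.map_bot]) (by
      rw [eq_bot_iff]
      intro x hx
      have : (x : G) ∈ A ⊓ H := hx
      rw [hdisj, mem_bot] at this
      exact mem_bot.2 (Subtype.ext this))
  intro a ha h hh
  exact congrArg Subtype.val (this (x := ⟨a, hAX ha⟩) ha ⟨h, hHX hh⟩ hh)

end Cfsg.Agent.S1251
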