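import Cfsg.Statements.S0949
import Cfsg.Agent.Lib.ZStar.Homocyc

set_option autoImplicit false
open Cfsg

namespace Cfsg.Agent.S0949

/-- Let the finite group G have a Sylow 2-subgroup P isomorphic to Z/2^m × Z/2^m with m ≥ 2, and suppose G has no nontrivial normal subgroup of odd order. Then P is normal in G, C_G(P) = P, and the index of P is 1 or 3. -/
theorem result {G : Type*} [Group G] [Finite G] (P : Sylow 2 G) (m : ℕ) (hm : 2 ≤ m) (e : (P : Subgroup G) ≃* Multiplicative (ZMod (2 ^ m) × ZMod (2 ^ m))) (hO : ∀ N : Subgroup G, N.Normal → Odd (Nat.card N) → N = ⊥) : (P : Subgroup G).Normal ∧ Subgroup.centralizer (P : Set G) = (P : Subgroup G) ∧ ((P : Subgroup G).index = 1 ∨ (P : Subgroup G).index = 3) := by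
  have hO' : Cfsg.pPrimeCore 2 G = ⊥ :=
    hO _ inferInstance (Nat.coprime_two_right.1 (Cfsg.Agent.Fit.coprime_card_pPrimeCore 2 G))
  haveI hN := Cfsg.Agent.ZStar.homocyclic_normal_aux _ G rfl P m hm e hO'
  have hc := (Cfsg.Agent.TwoGrp.homocyclic_omega (by omega) e).1
  have hP : Cfsg.Agent.Tr.SylowIn 2 (P : Subgroup G) (Subgroup.centralizer ((P : Subgroup G) : Set G)) :=
    Cfsg.Agent.Tr.SylowIn.of_sylow_le P fun a ha b hb => hc b hb a ha
  have hC := Cfsg.Agent.ZStar.eq_top_of_complement hO' hP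
    (hP.hasNormalPComplement_of_burnside inf_le_right)
  refine ⟨hN, hC, ?_⟩
  have h1 := (Cfsg.Agent.S0945.result P m (by omega) e).1
  have h2 : Subgroup.normalizer (P : Set G) = ⊤ := Subgroup.normalizer_eq_top (P : Subgroup G)
  have h3 : Subgroup.centralizer (P : Set G) = (P : Subgroup G) := hC
  rwa [h2, h3, Subgroup.relIndex_top_right] at h1

end Cfsg.Agent.S0949
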