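import Cfsg.Statements.S4976
import Cfsg.Agent.Lib.NR.R83y
import Cfsg.Agent.Lib.NR.KLoc
import Cfsg.Agent.Lib.NR.KS4
import Cfsg.Agent.Lib.NR.KC2
import Cfsg.Agent.Lib.NR.KB1
import Cfsg.Agent.Lib.NR.KB2
import Cfsg.Agent.Lib.NR.KFin2

set_option autoImplicit false
open Cfsg

namespace Cfsg.Agent.S4976

universe u

open Cfsg.Agent.NR in
theorem b2 : B2Stmt.{u} := fun G _ _ P m hc ho p N y x z pp rot hV b =>
  K4.beta2 m.simple m.nr hc ho pp b rot fun Y => m.oc _ Y (fun e => by
    have : y * x = x * y := (Subgroup.mem_centralizer_singleton_iff.1 (e.ge (Subgroup.mem_top x))).symm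
    have h := b.xy
    rw [← this, mul_inv_cancel_right, eq_comm, mul_eq_right] at h
    exact pp.one_lt.ne' (by rw [← b.oz, h, orderOf_one])) rot hV

open Cfsg.Agent.NR in
theorem k4 : K4Stmt.{u} := fun G _ _ _ ih h hse t s x tt ss t1 s1 st cm h8 xt xs =>
  kall kloc kmax kof k12 (kstep4_of b2) k5 kb1 kfin G ⟨t, s, x, tt, ss, t1, s1, st, cm, h8, xt, xs⟩ ih h
    fun ⟨H, hH⟩ => hse H hH

/-- Let G be a finite group of order divisible by 3 that is generated by its 2-elements (G has no proper normal subgroup of odd index). Then no element of order 3 in G is conjugate to its inverse if and only if the quotient of G by its largest normal subgroup of order prime to 3 is isomorphic to a direct product of groups PSL₂ over fields with 3^{2f+1} elements, f ≥ 1 (the exponents may differ between factors). -/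
theorem result {G : Type*} [Group G] [Finite G] (h3 : 3 ∣ Nat.card G) (hgen : Subgroup.closure {g : G | ∃ k : ℕ, orderOf g = 2 ^ k} = ⊤) : (∀ x : G, orderOf x = 3 → ¬ IsConj x x⁻¹) ↔ ∃ (k : ℕ) (f : Fin k → ℕ), (∀ i, 1 ≤ f i) ∧ Nonempty (G ⧸ Cfsg.pPrimeCore 3 G ≃* ((i : Fin k) → Matrix.ProjectiveSpecialLinearGroup (Fin 2) (GaloisField 3 (2 * f i + 1)))) :=
  NR.final_of_step (NR.step_of k4 NR.ry_r8) hgen

end Cfsg.Agent.S4976
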