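import Cfsg.Statements.S4997
import Cfsg.Agent.Lib.INW.Reg3
import Cfsg.Agent.Lib.Frob.FPF

set_option autoImplicit false
open Cfsg

namespace Cfsg.Agent.S4997

open Subgroup Cfsg.Agent.Fit

theorem conj_ord {G : Type*} [Group G] {a b : G} (h : IsConj a b) : orderOf a = orderOf b := by
  obtain ⟨c, hc⟩ := h
  exact hc.orderOf_eq

/-- Let p be an odd prime and G a finite solvable group with exactly one conjugacy class consisting of vanishing elements (elements at which some irreducible complex character is zero) of order divisible by p. Let P be a Sylow p-subgroup of G. Then the order of P is at most p times the order of the largest normal p-subgroup of G. -/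
theorem result {G : Type*} [Group G] [Finite G] (hsolv : Group.IsSolvable G) (p : ℕ) [Fact p.Prime] (hp : p ≠ 2) (h1 : Set.ncard {C : ConjClasses G | (∀ g ∈ C.carrier, ∃ χ : Cfsg.IrrCharacter G, (χ : G → ℂ) g = 0) ∧ ∃ g ∈ C.carrier, p ∣ orderOf g} = 1) (P : Sylow p G) : Nat.card ↥(P : Subgroup G) ≤ p * Nat.card ↥(Cfsg.pCore p G) := by
  have hpp : p.Prime := Fact.out
  obtain ⟨C, hC⟩ := Set.ncard_eq_one.1 h1
  have key : ∀ a : G, p ∣ orderOf (a : G ⧸ pCore p G) → ConjClasses.mk a = C := by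
    intro a ha
    rw [← Set.mem_singleton_iff, ← hC]
    refine ⟨fun g hg => ?_, a, ConjClasses.mem_carrier_mk,
      ha.trans (orderOf_map_dvd (QuotientGroup.mk' (pCore p G)) a)⟩
    by_contra hc
    push Not at hc
    obtain ⟨k, m, hm, he⟩ := Nat.exists_eq_pow_mul_and_not_dvd (orderOf_pos g).ne' p hpp.ne_one
    have h2 := INW.inw (hpp.odd_of_ne_two hp) _ G rfl g hc m k
      (by rw [← pow_mul, mul_comm, ← he, pow_orderOf_eq_one])
    have h3 : IsConj (g : G ⧸ pCore p G) a :=
      (QuotientGroup.mk' _).map_isConj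
        (ConjClasses.mk_eq_mk_iff_isConj.1 (ConjClasses.mem_carrier_iff_mk_eq.1 hg))
    rw [← conj_ord h3] at ha
    exact hm (ha.trans (orderOf_dvd_of_pow_eq_one (by
      rw [← QuotientGroup.mk_pow, QuotientGroup.eq_one_iff]; exact h2)))
  have key2 : ∀ a b : G ⧸ pCore p G, p ∣ orderOf a → p ∣ orderOf b → orderOf a = orderOf b := by
    intro a b ha hb
    obtain ⟨a, rfl⟩ := QuotientGroup.mk_surjective a
    obtain ⟨b, rfl⟩ := QuotientGroup.mk_surjective b
    exact conj_ord ((QuotientGroup.mk' _).map_isConj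
      (ConjClasses.mk_eq_mk_iff_isConj.1 ((key a ha).trans (key b hb).symm)))
  by_contra hlt
  have hdvd : p ^ 2 ∣ Nat.card (G ⧸ pCore p G) := by
    obtain ⟨a, ha⟩ := (isPGroup_pCore p G).exists_card_eq
    obtain ⟨b, hb⟩ := P.2.exists_card_eq
    rw [ha, hb, ← pow_succ', Nat.pow_le_pow_iff_right hpp.one_lt] at hlt
    have h2 := card_subgroup_dvd_card (P : Subgroup G)
    rw [hb, card_eq_card_quotient_mul_card_subgroup (pCore p G), ha] at h2
    refine Nat.dvd_of_mul_dvd_mul_right (pow_pos hpp.pos a) (dvd_trans ?_ h2)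
    rw [← pow_add]; exact pow_dvd_pow _ (by omega)
  obtain ⟨A, hA⟩ := Sylow.exists_subgroup_card_pow_prime p hdvd
  obtain ⟨y, hy⟩ := exists_prime_orderOf_dvd_card' p ((dvd_pow_self p two_ne_zero).trans hdvd)
  have key3 : ∀ a : G ⧸ pCore p G, p ∣ orderOf a → orderOf a = p := fun a ha =>
    (key2 a y ha hy.symm.dvd).trans hy
  haveI : Nontrivial (G ⧸ pCore p G) := ⟨y, 1, by rintro rfl; simp at hy; exact hpp.ne_one hy.symm⟩
  have hK : pPrimeCore p (G ⧸ pCore p G) ≠ ⊥ := fun h =>
    fitting_ne_bot ((fitting_eq_pCore hpp h).trans (pCore_quotient_pCore p G))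
  haveI : IsMulCommutative A := IsPGroup.isMulCommutative_of_card_eq_prime_sq hA
  have hcyc := Frob.isCyclic_of_fpf_of_comm (A := A) hK le_normalizer_of_normal fun a ha ha1 => by
    rw [eq_bot_iff]
    rintro c ⟨hc, hca⟩
    have h2 : orderOf a ∣ p ^ 2 := hA ▸ orderOf_dvd_natCard A ha
    have h3 : (orderOf c).Coprime p := (coprime_card_pPrimeCore p _).coprime_dvd_left
      (orderOf_dvd_natCard _ hc)
    have h4 : p ∣ orderOf a := by
      obtain ⟨j, -, hj⟩ := (Nat.dvd_prime_pow hpp).1 h2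
      rcases j with _ | j
      · exact absurd (orderOf_eq_one_iff.1 hj) ha1
      · rw [hj]; exact dvd_pow_self p j.succ_ne_zero
    have h5 := Commute.orderOf_mul_eq_mul_orderOf_of_coprime
      (mem_centralizer_singleton_iff.1 hca) (by rw [key3 a h4]; exact h3)
    have h6 := key3 (c * a) (h5 ▸ h4.mul_left _)
    rw [h5, key3 a h4] at h6
    exact orderOf_eq_one_iff.1 (Nat.eq_of_mul_eq_mul_right hpp.pos (by simpa using h6))
  obtain ⟨g, hg⟩ := hcyc.exists_ofOrder_eq_natCard
  rw [← orderOf_coe, hA] at hg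
  have := key3 g (hg ▸ dvd_pow_self p two_ne_zero)
  rw [hg, pow_two] at this
  exact hpp.ne_one (Nat.eq_of_mul_eq_mul_right hpp.pos (by simpa using this))

end Cfsg.Agent.S4997
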