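import Cfsg.Statements.S5180
import Cfsg.Agent.Lib.Ess.Lvl

set_option autoImplicit false
universe u
open Cfsg

namespace Cfsg.Agent.S5180

/-- Let p ≥ 5 be a prime, S a finite p-group of sectional p-rank exactly 3, and F a saturated fusion system over S. Then every essential subgroup E of F that needs three generators (the Frattini quotient E/Φ(E) has order p³) is normal in S. -/
theorem result {Ω : Type u} [Group Ω] {S : Subgroup Ω} [Finite S] (p : ℕ) [Fact p.Prime] (hp : 5 ≤ p) (hS : IsPGroup p S) (hsr : Cfsg.SectionalPRankLE p 3 ↥S ∧ ¬ Cfsg.SectionalPRankLE p 2 ↥S)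
    (F : Cfsg.FusionSystem S) (hF : F.IsSaturated p) (E : Subgroup Ω) (hE : F.IsEssential p E)
    (hrk : (frattini ↥E).index = p ^ 3) : S ≤ Subgroup.normalizer (E : Set Ω) := by
  by_contra hn
  haveI := Cfsg.Agent.Fus2.finite_of_le hE.1.1
  have hG := (Ess.essData hS hF hE).hG
  have hi := Subgroup.card_mul_index (frattini ↥E)
  have h1 : 1 < p := (Fact.out : p.Prime).one_lt
  rcases Ess.prl_of_not_normal hS hF hp (Ess.sr_of_sectional hsr.1) hE hn with h | ⟨h, h'⟩
  · have := Nat.le_of_dvd Nat.card_pos (Subgroup.index_dvd_card (frattini ↥E))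
    rw [hrk, h, Nat.pow_le_pow_iff_right h1] at this
    omega
  · rw [hrk, h] at hi
    exact h' (Ess.comm_of_pow_eq_one_of_frattini hG (Subgroup.card_eq_one.1
      (Nat.eq_of_mul_eq_mul_right (pow_pos (by omega) 3) (hi.trans (one_mul _).symm)))).1

end Cfsg.Agent.S5180
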