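import Cfsg.Statements.S5182
import Cfsg.Agent.Lib.Ess.Fin3

set_option autoImplicit false
universe u
open Cfsg

namespace Cfsg.Agent.S5182

/-- Let p ≥ 5 be a prime, S a finite p-group of sectional p-rank exactly 3, and F a saturated fusion system over S whose largest subgroup normal in F is trivial. Then F has an essential subgroup that is either elementary abelian of order p² or extraspecial of order p³ and exponent p. -/
theorem result {Ω : Type u} [Group Ω] {S : Subgroup Ω} [Finite S] (p : ℕ) [Fact p.Prime] (hp : 5 ≤ p) (hS : IsPGroup p S) (hsr : Cfsg.SectionalPRankLE p 3 ↥S ∧ ¬ Cfsg.SectionalPRankLE p 2 ↥S)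
    (F : Cfsg.FusionSystem S) (hF : F.IsSaturated p) (hO : F.core = ⊥) :
    ∃ E : Subgroup Ω, (F.IsEssential p E ∧ ((Cfsg.IsElementaryAbelian p E ∧ Nat.card E = p ^ 2) ∨
        (Cfsg.IsExtraspecial p ↥E ∧ Nat.card E = p ^ 3 ∧ ∀ x ∈ E, x ^ p = 1))) := by
  have h2 : p ≠ 2 := by omega
  have hr := Ess.sr_of_sectional hsr.1
  by_cases hn : ∀ E, F.IsEssential p E → S ≤ Subgroup.normalizer (E : Set Ω)
  · obtain ⟨V, g, E, hE, hg, h⟩ := Ess.exists_cubic hS hF h2 hr hsr.2 hO hn
    exact ⟨E, hE, Ess.pearl_of_prl hS hF h2 hE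
      (Or.inr (Ess.prl_of_cubic hS hF h2 hr hE (inf_eq_left.2 (hn E hE)) hg h))⟩
  · push Not at hn
    obtain ⟨E, hE, hn⟩ := hn
    exact ⟨E, hE, Ess.pearl_of_prl hS hF h2 hE (Ess.prl_of_not_normal hS hF hp hr hE hn)⟩

end Cfsg.Agent.S5182
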