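import Cfsg.Statements.S5185
import Cfsg.Agent.Lib.Ess.Amb

set_option autoImplicit false
universe u
open Cfsg

namespace Cfsg.Agent.S5185

/-- Let F be a saturated fusion system over a finite p-group S and H an essential subgroup of order p². Then H is elementary abelian (isomorphic to C_p × C_p) and its F-automorphism group contains a subgroup isomorphic to SL(2,p). -/
theorem result {Ω : Type u} [Group Ω] {S : Subgroup Ω} [Finite S] (p : ℕ) [Fact p.Prime] (hS : IsPGroup p S)
    (F : Cfsg.FusionSystem S) (hF : F.IsSaturated p) (H : Subgroup Ω) (hH : F.IsEssential p H) (hcard : Nat.card H = p ^ 2) :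
    Cfsg.IsElementaryAbelian p H ∧
      ∃ K : Subgroup ↥(F.autGroup H), Nonempty (↥K ≃* Matrix.SpecialLinearGroup (Fin 2) (ZMod p)) := by
  have hp : p.Prime := Fact.out
  have := Fus.finite_of_le hH.1.1
  have hd := Ess.essData hS hF hH
  have hi := hd.index_frattini_eq (hcard ▸ Nat.le_of_dvd Nat.card_pos (frattini H).index_dvd_card)
  have hb : frattini H = ⊥ := by
    have h1 := (frattini H).card_mul_index
    rw [hi, hcard] at h1
    exact Subgroup.card_eq_one.1 (Nat.eq_of_mul_eq_mul_right (pow_pos hp.pos 2) (by rw [h1, one_mul]))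
  have hexp : ∀ x : H, x ^ p = 1 := fun x => by
    have := Fit.pow_mem_frattini hd.hG x
    rwa [hb] at this
  refine ⟨⟨IsPGroup.isMulCommutative_of_card_eq_prime_sq hcard,
    fun a ha => congrArg Subtype.val (hexp ⟨a, ha⟩)⟩, ?_⟩
  have hf : Ess.FaithSec p (F.autGroup H) (autInducedBy S H) (MonoidHom.id H) ⊤ :=
    ⟨le_top, by simpa using hcard, Ess.inv_top _, by simpa using Ess.inv_bot _, hd.le,
      fun K _ hc => by simpa using hc⟩
  obtain ⟨t, ht, hti⟩ := hd.ne
  obtain ⟨u, v, hs⟩ := hf.exists_sl2Sec' hd ht hti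
  obtain ⟨φ, hφ, hφ', -⟩ := Ess.exists_SL2 hcard hexp hs.u_ne hs.v_not_mem
  have hle : φ.range ≤ F.autGroup H := by
    rintro _ ⟨M, rfl⟩
    obtain ⟨g, hg, -, h₁, h₂⟩ := hs.sl M
    have e : φ M = g := by
      refine Ess.plane_ext hcard hexp hs.u_ne hs.v_not_mem ?_ ?_
      · have := hφ' M 1 0
        rw [TwoGrp.zp_one (hexp _), TwoGrp.zp_zero, mul_one] at this
        rw [this]; simpa using h₁.symm
      · have := hφ' M 0 1
        rw [TwoGrp.zp_one (hexp _), TwoGrp.zp_zero, one_mul] at this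
        rw [this]; simpa using h₂.symm
    rw [e]
    exact Ess.ncl_le (Set.singleton_subset_iff.2 (hd.le ht)) hg
  exact ⟨φ.range.subgroupOf _, ⟨(Subgroup.subgroupOfEquivOfLe hle).trans
    (MonoidHom.ofInjective hφ).symm⟩⟩

end Cfsg.Agent.S5185
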