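import Cfsg.Statements.S5188
import Cfsg.Agent.Lib.Ess.Small

set_option autoImplicit false
universe u
open Cfsg

namespace Cfsg.Agent.S5188

/-- Let F be a saturated fusion system over a finite p-group S and H an essential subgroup of order p⁴. Then H is isomorphic to one of: C_p⁴ or C_{p²} × C_p × C_p (any p); C_{p²} × C_{p²} with p ∈ {2, 3}; p^{1+2}_+ × C_p with p odd (the direct product of an extraspecial group of order p³ and exponent p with a group of order p); Q₈ × C₂ (p = 2); or the non-abelian group of order p⁴ of exponent p² whose centre is cyclic of order p² (the central product of an extraspecial group of order p³ with a cyclic group of order p²; for p = 2 this is D₈ ∘ C₄). -/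
theorem result {Ω : Type u} [Group Ω] {S : Subgroup Ω} [Finite S] (p : ℕ) [Fact p.Prime] (hS : IsPGroup p S)
    (F : Cfsg.FusionSystem S) (hF : F.IsSaturated p) (H : Subgroup Ω) (hH : F.IsEssential p H) (hcard : Nat.card H = p ^ 4) :
    Cfsg.IsElementaryAbelian p H ∨
      Nonempty (↥H ≃* Multiplicative (ZMod (p ^ 2) × ZMod p × ZMod p)) ∨
      ((p = 2 ∨ p = 3) ∧ Nonempty (↥H ≃* Multiplicative (ZMod (p ^ 2) × ZMod (p ^ 2)))) ∨
      (Odd p ∧ ∃ (E : Type) (_ : Group E) (_ : Finite E), Cfsg.IsExtraspecial p E ∧ Nat.card E = p ^ 3 ∧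
        (∀ x : E, x ^ p = 1) ∧ Nonempty (↥H ≃* E × Multiplicative (ZMod p))) ∨
      (p = 2 ∧ Nonempty (↥H ≃* QuaternionGroup 2 × Multiplicative (ZMod 2))) ∨
      (¬ IsMulCommutative ↥H ∧ (∀ x ∈ H, x ^ (p ^ 2) = 1) ∧ IsCyclic ↥(Subgroup.center ↥H) ∧
        Nat.card (Subgroup.center ↥H) = p ^ 2) := by
  have hp : p.Prime := Fact.out
  have := Fus.finite_of_le hH.1.1
  rcases (Ess.essData hS hF hH).card_four hcard with h | h | h | h | h | h
  · exact Or.inl ⟨Ess.isMulCommutative_of_commute h.1,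
      fun a ha => congrArg Subtype.val (h.2 ⟨a, ha⟩)⟩
  · exact Or.inr (Or.inl h)
  · refine Or.inr (Or.inr (Or.inl ⟨?_, h.2⟩))
    have := hp.two_le
    omega
  · obtain ⟨h2, M, hM, hna, hexp, ⟨e⟩⟩ := h
    obtain ⟨E, i₁, i₂, h₁, h₂, ⟨e'⟩⟩ := Ess.exists_shrink_extraspecial hM hna
    refine Or.inr (Or.inr (Or.inr (Or.inl ⟨hp.odd_of_ne_two h2, E, i₁, i₂, h₁, h₂, fun x => ?_,
      ⟨e.trans (e'.prodCongr (MulEquiv.refl _))⟩⟩)))
    obtain ⟨y, rfl⟩ := e'.surjective x
    rw [← map_pow, show y ^ p = 1 from Subtype.ext (hexp y), map_one]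
  · exact Or.inr (Or.inr (Or.inr (Or.inr (Or.inl h))))
  · exact Or.inr (Or.inr (Or.inr (Or.inr (Or.inr ⟨fun hc => h.1
      (Ess.commute_of_isMulCommutative hc), fun a ha => congrArg Subtype.val (h.2.1 ⟨a, ha⟩),
      h.2.2⟩))))

end Cfsg.Agent.S5188
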