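import Cfsg.Statements.S5192
import Cfsg.Agent.Lib.Biset.Transfer

set_option autoImplicit false
open Cfsg

namespace Cfsg.Agent.S5192

open Cfsg.Agent.Biset Cfsg.FusionSystem in
theorem card_centralizer_eq {Ω : Type*} [Group Ω] {S : Subgroup Ω} (j : S) (hj : orderOf (j : Ω) = 2) :
    Nat.card (Subgroup.centralizer ({j} : Set S)) =
      Nat.card (normalizerIn S (Subgroup.zpowers (j : Ω))) := by
  have h2 : (j : Ω) * j = 1 := by rw [← pow_two, ← hj, pow_orderOf_eq_one]
  have h1 : (j : Ω) ≠ 1 := by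
    intro h
    rw [h, orderOf_one] at hj
    exact absurd hj (by decide)
  have hmem : ∀ y ∈ Subgroup.zpowers (j : Ω), y = 1 ∨ y = j := by
    rintro _ ⟨n, rfl⟩
    rcases Int.even_or_odd' n with ⟨k, rfl | rfl⟩
    · left; simp only [zpow_mul, zpow_two, h2, one_zpow]
    · right; simp only [zpow_add, zpow_mul, zpow_two, h2, one_zpow, one_mul, zpow_one]
  refine Nat.card_congr
    { toFun := fun c => ⟨c.1, c.1.2, Subgroup.centralizer_le_normalizer _ ?_⟩
      invFun := fun n => ⟨⟨n.1, n.2.1⟩, ?_⟩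
      left_inv := fun _ => rfl
      right_inv := fun _ => rfl }
  · intro y hy
    rcases hmem y hy with rfl | rfl
    · simp
    · exact congrArg Subtype.val (c.2 j rfl)
  · rintro _ rfl
    apply Subtype.ext
    rcases hmem _ ((n.2.2 _).1 (Subgroup.mem_zpowers _)) with h | h
    · exact absurd (by simpa using h) h1
    · exact (mul_inv_eq_iff_eq_mul.1 h).symm

/-- A Thompson-type transfer for saturated fusion systems. Let F be a saturated fusion system on a finite 2-group S, T a subgroup of S of index 2, and i an involution of S such that every fully normalized F-conjugate of i lies in S but outside T. Then i does not lie in the hyperfocal subgroup of F (the Sylow group of the 2-residual subsystem). -/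
theorem result {Ω : Type*} [Group Ω] [Finite Ω] {S : Subgroup Ω}
    (hS : IsPGroup 2 ↥S) (F : Cfsg.FusionSystem S) (hF : F.IsSaturated 2)
    (T : Subgroup Ω) (hTS : T ≤ S) (hT : T.relIndex S = 2)
    (i : Ω) (hi : i ∈ S) (hi2 : orderOf i = 2)
    (h : ∀ j : Ω, F.IsConjElt i j → F.IsFullyNormalized (Subgroup.zpowers j) → j ∉ T) :
    i ∉ F.hyperfocalSubgroup 2 := by
  classical
  intro hfoc
  obtain ⟨X, _, hX⟩ := Biset.exists_isCharBiset hS F hF
  haveI := hX.finite
  have hi' : (⟨i, hi⟩ : S) * ⟨i, hi⟩ = 1 :=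
    Subtype.ext (by change i * i = 1; rw [← pow_two, ← hi2, pow_orderOf_eq_one])
  set a : S := ⟨i, hi⟩ with ha
  let μ : S →* ℤˣ := MonoidHom.mk' (fun s => if s ∈ T.subgroupOf S then 1 else -1) (by
    intro s t
    simp only [Subgroup.mul_mem_iff_of_index_two hT]
    by_cases h1 : s ∈ T.subgroupOf S <;> by_cases h2 : t ∈ T.subgroupOf S <;> simp [h1, h2])
  obtain ⟨κ, hκ⟩ := Biset.exists_weight ((Biset.ract S X).comp (MonoidHom.id S)) μ
    (Biset.sat_univ _) fun t x _ h => by rw [Biset.ract_free hX.stab h, map_one]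
  obtain ⟨a', h3, h4⟩ := Biset.focal_le_ker
    ((Biset.transfer _ μ κ fun t x => hκ t x trivial).comp (Biset.iota S X))
    (fun P f hf a b => (hX.stableBiset hS).map_iota_eq
      (Biset.transfer _ μ κ fun t x => hκ t x trivial) hf) (Biset.hyperfocal_le_focal F 2 hfoc)
  obtain rfl : a' = a := Subtype.ext h4
  have h5 : Biset.oprod (Biset.orb (Biset.ract S X)) Set.univ
    (fun x => κ (Biset.lact S X a x) / κ x) = 1 := h3
  have hP : Subgroup.zpowers i ≤ S := Subgroup.zpowers_le.2 hi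
  have hinv : Biset.Inv (Biset.orb (Biset.ract S X)) Set.univ
      (fun x => κ (Biset.lact S X a x) / κ x) :=
    Biset.inv_deg (μ := μ) (ρ := Biset.ract S X) hκ hκ (fun t x => Biset.lact_ract _ _ _)
      fun _ _ => trivial
  rw [Biset.oprod_eq_fixed (p := 2) (Fus.isPGroup_of_le hS hP)
    ((Biset.lact S X).comp (Subgroup.inclusion hP)) (Biset.sat_univ _)
    (fun k x y h => Biset.orb_ract_of_rcomm (Biset.lact_mem_rcomm _) h) (fun _ _ _ => trivial)
    hinv ?_ fun x _ => Int.units_sq _, ← Biset.XP_bot (S := S), ← Biset.XP_eq_fixed hP bot_le] at h5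
  swap
  · rintro ⟨_, n, rfl⟩ x -
    have h6 : ∀ x, κ (Biset.lact S X a (Biset.lact S X a x)) / κ (Biset.lact S X a x) =
        κ (Biset.lact S X a x) / κ x := by
      intro x
      rw [← Equiv.Perm.mul_apply, ← map_mul, hi', map_one, Equiv.Perm.one_apply, ← inv_div,
        Int.units_inv_eq_self]
    change κ (Biset.lact S X a (Biset.lact S X (a ^ n) x)) / κ (Biset.lact S X (a ^ n) x) = _
    rcases Int.even_or_odd' n with ⟨k, rfl | rfl⟩
    · rw [zpow_mul, zpow_two, hi', one_zpow, map_one]; rfl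
    · rw [zpow_add, zpow_mul, zpow_two, hi', one_zpow, one_mul, zpow_one]; exact h6 x
  -- on the fixed points
  have hb : ∀ x : X, ∃ b : S, x ∈ Biset.XP S X (Subgroup.zpowers i) → x ∈ Biset.fibe X a b := by
    intro x
    by_cases hx : x ∈ Biset.XP S X (Subgroup.zpowers i)
    · obtain ⟨b, hb⟩ := (Biset.coe_mem_pdom (a := a)).1 (hx (Subgroup.mem_zpowers i))
      exact ⟨b, fun _ => hb⟩
    · exact ⟨1, fun h => absurd h hx⟩
  choose b hb using hb
  have hXP : ∀ (c : S) (x : X), x ∈ Biset.fibe X a c → x ∈ Biset.XP S X (Subgroup.zpowers i) :=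
    fun c x hx => Subgroup.zpowers_le.2 ((Biset.coe_mem_pdom (a := a)).2 ⟨c, hx⟩)
  have hw : ∀ x ∈ Biset.XP S X (Subgroup.zpowers i), κ (Biset.lact S X a x) / κ x = μ (b x) := by
    intro x hx
    have h6 : Biset.ract S X (b x) (Biset.lact S X a x) = x := (Biset.lact_ract _ _ _).symm.trans
      (hb x hx)
    have h7 := hκ (b x) (Biset.lact S X a x) trivial
    change κ (Biset.ract S X (b x) (Biset.lact S X a x)) = _ at h7
    rw [h6] at h7
    rw [h7, div_mul_cancel_right, Int.units_inv_eq_self]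
  let Y : Set X := {x | x ∈ Biset.XP S X (Subgroup.zpowers i) ∧ b x ∈ T.subgroupOf S}
  have hodd := hX.not_dvd_ocard_XP hS hP
  rw [Biset.ocard_diff (Z := Y) fun x hx => hx.1] at hodd
  rw [Biset.oprod_diff (Z := Y) fun x hx => hx.1, Biset.oprod_eq_one (Y := Y) (fun x hx => by
    rw [hw x hx.1]; exact if_pos hx.2), one_mul, Biset.oprod_eq_pow (c := -1) (fun x hx => by
    rw [hw x hx.1]; exact if_neg fun h => hx.2 ⟨hx.1, h⟩),
    neg_one_pow_eq_one_iff_even (by decide)] at h5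
  refine hodd (dvd_add ?_ h5.two_dvd)
  -- the even count
  obtain ⟨Q, hQ, hQn⟩ := Fus.exists_isConj_fullyNormalized (F := F) hP
  obtain ⟨f₀, hf₀, rfl⟩ := Biset.isConj_iff_isMap.1 hQ
  have hzp : ∀ {f : Ω → Ω}, Biset.IsMap F (Subgroup.zpowers i) f →
      Biset.img f (Subgroup.zpowers i) = Subgroup.zpowers (f i) ∧ orderOf (f i) = 2 := by
    intro f hf
    have h6 : Biset.img f (Subgroup.zpowers i) = Subgroup.zpowers (f i) := by
      ext y
      rw [hf.mem_img]
      constructor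
      · rintro ⟨_, ⟨n, rfl⟩, rfl⟩
        exact ⟨n, (hf.map_zpow (Subgroup.mem_zpowers i) n).symm⟩
      · rintro ⟨n, rfl⟩
        exact ⟨_, ⟨n, rfl⟩, hf.map_zpow (Subgroup.mem_zpowers i) n⟩
    refine ⟨h6, ?_⟩
    rw [← Nat.card_zpowers, ← h6, hf.card_img, Nat.card_zpowers, hi2]
  haveI := Fintype.ofFinite (ConjClasses S)
  rw [Biset.ocard_fiberwise (Y := Y) Finset.univ (fun x => ConjClasses.mk (b x))
    fun _ _ => Finset.mem_univ _]
  refine Finset.dvd_sum fun c _ => ?_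
  rcases Set.eq_empty_or_nonempty {x | x ∈ Y ∧ ConjClasses.mk (b x) = c} with h0 | ⟨x, hx, rfl⟩
  · rw [h0]
    simp [Biset.ocard, Biset.ocl]
  haveI : (T.subgroupOf S).Normal := Subgroup.normal_of_index_eq_two hT
  have h6 : {y | y ∈ Y ∧ ConjClasses.mk (b y) = ConjClasses.mk (b x)} =
      {y | ∃ t : S, y ∈ Biset.fibe X a (t * b x * t⁻¹)} := by
    ext y
    constructor
    · rintro ⟨h7, h8⟩
      obtain ⟨t, ht⟩ := isConj_iff.1 (ConjClasses.mk_eq_mk_iff_isConj.1 h8.symm)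
      exact ⟨t, ht ▸ hb y h7.1⟩
    · rintro ⟨t, ht⟩
      have h7 := Biset.eq_of_mem_fibe hX.stab (hb y (hXP _ y ht)) ht
      refine ⟨⟨hXP _ y ht, ?_⟩, ?_⟩
      · rw [h7]
        exact Subgroup.Normal.conj_mem inferInstance _ hx.2 t
      · rw [h7]
        exact (ConjClasses.mk_eq_mk_iff_isConj.2 (isConj_iff.2 ⟨t, rfl⟩)).symm
  rw [h6]
  obtain ⟨f, hf, e⟩ := Biset.exists_pmap hX.stab x
  have hf' := hf.mono hx.1
  have hfi : f i = b x := ((e a (b x)).1 (hb x hx.1)).2
  have h7 := Biset.ocard_fibe_mul hX.stab a (b x)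
  have h8 := Biset.ocard_fibe_mul hX.stab a ⟨f₀ i, hf₀.mem (Subgroup.mem_zpowers i)⟩
  rw [Biset.ncard_fibe hf' rfl hfi, card_centralizer_eq _ (hfi ▸ (hzp hf').2)] at h7
  rw [Biset.ncard_fibe hf₀ rfl rfl, card_centralizer_eq _ (hzp hf₀).2,
    hX.stable _ ⟨_, _, hf₀.isGraph⟩ _ ⟨_, _, hf'.isGraph⟩ (by
      rw [hf₀.isGraph.dom_eq, hf'.isGraph.dom_eq]; exact Fus.isConj_refl hP), ← h7] at h8
  have h9 : Nat.card (FusionSystem.normalizerIn S (Subgroup.zpowers (b x : Ω))) <
      Nat.card (FusionSystem.normalizerIn S (Subgroup.zpowers (f₀ i))) := by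
    by_contra hlt
    obtain ⟨φ, hφ, e'⟩ := id hf'
    refine h (b x) ⟨φ, hφ, (e' _).trans hfi⟩ ⟨Subgroup.zpowers_le.2 (b x).2, fun R hR => ?_⟩ hx.2
    refine (hQn.2 R ?_).trans (by rw [(hzp hf₀).1]; exact not_lt.1 hlt)
    refine Fus.isConj_trans (Fus.isConj_symm hQ) (Fus.isConj_trans ?_ hR)
    rw [← hfi, ← (hzp hf').1]
    exact hf'.isConj
  obtain ⟨k, hk⟩ := IsPGroup.iff_card.1 (Fus.isPGroup_of_le hS
    (Fus.normalizerIn_le (S := S) (Subgroup.zpowers (b x : Ω))))
  obtain ⟨l, hl⟩ := IsPGroup.iff_card.1 (Fus.isPGroup_of_le hS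
    (Fus.normalizerIn_le (S := S) (Subgroup.zpowers (f₀ i))))
  rw [hk, hl, Nat.pow_lt_pow_iff_right (by decide)] at h9
  rw [hk, hl] at h8
  obtain ⟨m, rfl⟩ := Nat.exists_eq_add_of_lt h9
  refine Nat.dvd_of_mul_dvd_mul_right (k := 2 ^ k) (by positivity) ?_
  rw [← h8]
  exact Dvd.dvd.mul_left ⟨2 ^ m, by ring⟩ _

end Cfsg.Agent.S5192
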