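import Cfsg.Statements.S5258
import Cfsg.Agent.Lib.U5.Final
import Cfsg.Agent.Lib.U5.ESS12
import Cfsg.Agent.Lib.U5.Ess3
import Cfsg.Agent.Lib.U5.QF
import Cfsg.Agent.Lib.U5.Nrm
import Cfsg.Agent.Lib.U5.L1
import Cfsg.Agent.Lib.U5.L2
import Cfsg.Agent.Lib.U5.CoreA
import Cfsg.Agent.Lib.U5.CoreB
import Cfsg.Agent.Lib.U5.Ext
import Cfsg.Agent.Lib.U5.Cmp
import Cfsg.Agent.Lib.U5.Model
import Cfsg.Agent.Lib.U5.Syl

set_option autoImplicit false
open Cfsg

namespace Cfsg.Agent.S5258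

/-- Let p be a prime, K a finite field with q² elements where q = pⁿ (n ≥ 1), and S a finite p-group isomorphic to a Sylow p-subgroup of the projective special unitary group PSU₅(q) realised over K. Then every saturated fusion system over S is realizable: it is the fusion system of a finite group on a Sylow p-subgroup. -/
theorem result {Ω : Type*} [Group Ω] {S : Subgroup Ω} [Finite S] (p : ℕ) [Fact p.Prime] (hS : IsPGroup p S) (F : Cfsg.FusionSystem S) (hF : F.IsSaturated p) {K : Type*} [Field K] [Fintype K] [CharP K p] (n : ℕ) (hn : 1 ≤ n) (hK : Fintype.card K = (p ^ n) ^ 2) (T : Sylow p (Cfsg.PSU 5 K (p ^ n))) (e : ↥S ≃* ↥(T : Subgroup (Cfsg.PSU 5 K (p ^ n)))) : F.IsRealizable p := by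
  exact U5.s5258_of U5.ess12 (U5.ess3 U5.qf) U5.nrm (U5.l1 U5.coreA U5.coreB U5.ext)
    (U5.l2 U5.ext) (U5.cmp (U5.l1 U5.coreA U5.coreB U5.ext) (U5.l2 U5.ext)) U5.model U5.syl
    p hS F hF n hK T e

end Cfsg.Agent.S5258
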