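import Cfsg.Statements.S5265
import Cfsg.Agent.Lib.Ess.IdxSq

set_option autoImplicit false
open Cfsg

namespace Cfsg.Agent.S5265

/-- Let p be a prime, S a nontrivial finite p-group whose centre has index at most p², and F a saturated fusion system over S with no nontrivial normal subgroup and with hyperfocal subgroup equal to S. Then S is extraspecial of order p³; for odd p it has exponent p, and for p = 2 it is dihedral of order 8. -/
theorem result {Ω : Type*} [Group Ω] {S : Subgroup Ω} [Finite S] (p : ℕ) [Fact p.Prime] (hS : IsPGroup p ↥S) (F : Cfsg.FusionSystem S) (hF : F.IsSaturated p) (hS1 : S ≠ ⊥) (hcore : F.core = ⊥) (hhyp : F.hyperfocalSubgroup p = S) (hZ : (Subgroup.center ↥S).index ≤ p ^ 2) : Cfsg.IsExtraspecial p ↥S ∧ Nat.card S = p ^ 3 ∧ (p ≠ 2 → Monoid.exponent ↥S = p) ∧ (p = 2 → Nonempty (↥S ≃* DihedralGroup 4)) := by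
  have hp : p.Prime := Fact.out
  obtain ⟨E, hE⟩ := Ess.exists_essential hS hF hcore hS1
  have hna := Ess.not_comm_of_essential hS hF hE
  obtain ⟨z, h⟩ := Ess.exists_idxSq hS (Ess.relIndex_dvd_of_le hS (by
    rwa [Subgroup.relIndex, Ess.cen_subgroupOf])) hna
  have h2 : p = 2 → FusionSystem.centralizerIn S S ≤ Subgroup.zpowers z ∧
      Nonempty (S ≃* DihedralGroup 4) := by
    rintro rfl
    exact h.two hS hF hcore (hhyp.ge.trans (Fus2.hyp_le_foc F 2))
  have hz : FusionSystem.centralizerIn S S ≤ Subgroup.zpowers z := by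
    by_cases hp2 : p = 2
    exacts [(h2 hp2).1, h.cen_le_of_odd hS hF hp2 hcore]
  have hc := h.card hz
  have hx := Ess.isExtraspecial_of_card hc fun e => hna fun x hx y hy =>
    congrArg Subtype.val (e ⟨x, hx⟩ ⟨y, hy⟩).eq
  refine ⟨hx, hc, fun hp2 => ?_, fun hp2 => (h2 hp2).2⟩
  obtain ⟨-, -, -, -, -, -, -, h₁⟩ := Ess.exists_of_genEx hS hF hE (Fus2.sc_top F) h.pow (by
    rw [Ess.phi_eq hS, hx.1.2.1, ← Ess.cen_subgroupOf,
      Subgroup.map_subgroupOf_eq_of_le (Fus.centralizerIn_le S)]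
    exact le_antisymm hz (Subgroup.zpowers_le.2 h.mem)) (Fus.lt_of_isEssential hS hF hE).not_ge
  haveI : Nontrivial S := (Subgroup.nontrivial_iff_ne_bot S).2 hS1
  exact (Monoid.exponent_eq_prime_iff hp).2 fun g hg =>
    orderOf_eq_prime (Subtype.ext (h₁ hp2 g g.2)) hg

end Cfsg.Agent.S5265
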