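import Cfsg.Statements.S5267
import Cfsg.Agent.Lib.MC.Main

set_option autoImplicit false
open Cfsg

namespace Cfsg.Agent.S5267

/-- Let p be a prime and S a finite p-group of maximal class of order p^n with n ≥ 4 (nilpotency class n − 1: the term γ_{n−1}(S) of its lower central series, reached from S after n − 2 commutator steps, is nontrivial), F a saturated fusion system over S and E an F-essential subgroup. Write Γ₁ for the two-step centralizer C_S([S,S]/γ₄(S)) (the elements of S whose commutators with [S,S] lie in the fourth term γ₄(S) of the lower central series) and Z₂(S) for the second centre. Then E is a pearl — elementary abelian of order p², or extraspecial of order p³ of exponent p (p odd) or quaternion of order 8 (p = 2) — or E = Γ₁, or E = C_S(Z₂(S)). Moreover, if Γ₁ ≠ C_S(Z₂(S)) then every pearl of F is elementary abelian of order p². -/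
theorem result {Ω : Type*} [Group Ω] {S : Subgroup Ω} [Finite S] (p : ℕ) [Fact p.Prime] (hS : IsPGroup p ↥S) (n : ℕ) (hn : Nat.card S = p ^ n) (h4 : 4 ≤ n) (hmax : Subgroup.lowerCentralSeries S (n - 2) ≠ ⊥) (F : Cfsg.FusionSystem S) (hF : F.IsSaturated p) (Γ₁ : Subgroup Ω) (hΓ₁ : ∀ x : Ω, x ∈ Γ₁ ↔ x ∈ S ∧ ∀ y ∈ Subgroup.lowerCentralSeries S 1, x * y * x⁻¹ * y⁻¹ ∈ Subgroup.lowerCentralSeries S 3) : (∀ E : Subgroup Ω, F.IsEssential p E → (Nat.card ↥E = p ^ 2 ∧ Cfsg.IsElementaryAbelian p E) ∨ (Nat.card ↥E = p ^ 3 ∧ Cfsg.IsExtraspecial p ↥E ∧ (p ≠ 2 → Monoid.exponent ↥E = p) ∧ (p = 2 → Nonempty (↥E ≃* QuaternionGroup 2))) ∨ E = Γ₁ ∨ E = (S ⊓ Subgroup.centralizer (((Subgroup.upperCentralSeries ↥S 2).map S.subtype) : Set Ω))) ∧ (Γ₁ ≠ (S ⊓ Subgroup.centralizer (((Subgroup.upperCentralSeries ↥S 2).map S.subtype) : Set Ω)) → ∀ E : Subgroup Ω, F.IsEssential p E → (Nat.card ↥E = p ^ 3 ∧ Cfsg.IsExtraspecial p ↥E ∧ (p ≠ 2 → Monoid.exponent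 ↥E = p) ∧ (p = 2 → Nonempty (↥E ≃* QuaternionGroup 2))) → False) := by
  have hp' : p.Prime := Fact.out
  have h : Ess.MaxCl p n S := ⟨hn, by omega, mt Ess.lcs_eq_bot_iff.1 hmax⟩
  obtain ⟨K, hK⟩ := h.exists_twoStep h4
  obtain ⟨F', hF', hE'⟩ := Ess.exists_top hS hF
  have e₁ : Γ₁ = K.map S.subtype := by
    ext x
    rw [hΓ₁, ← Ess.lcs_map_subtype, ← Ess.lcs_map_subtype]
    refine ⟨fun ⟨hx, hx'⟩ => ⟨⟨x, hx⟩, (hK.mem_iff h h4).2 fun y hy => ?_, rfl⟩, ?_⟩
    · obtain ⟨z, hz, e'⟩ := hx' y ⟨y, hy, rfl⟩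
      have e'' : z = ⟨x, hx⟩ * y * ⟨x, hx⟩⁻¹ * y⁻¹ := Subtype.ext e'
      rw [e''] at hz
      exact hz
    · rintro ⟨x, hx, rfl⟩
      refine ⟨x.2, ?_⟩
      rintro _ ⟨y, hy, rfl⟩
      exact ⟨_, (hK.mem_iff h h4).1 hx y hy, rfl⟩
  have e₂ : S ⊓ Subgroup.centralizer (((Subgroup.upperCentralSeries ↥S 2).map S.subtype) : Set Ω) =
      (Subgroup.centralizer (Ess.lcs S (n - 3) : Set S)).map S.subtype := by
    rw [h.ucs_eq h4, show n - 1 - 2 = n - 3 by omega]
    ext x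
    refine ⟨fun ⟨hx, hx'⟩ => ⟨⟨x, hx⟩, fun y hy => Subtype.ext (hx' y ⟨y, hy, rfl⟩), rfl⟩, ?_⟩
    rintro ⟨x, hx, rfl⟩
    refine ⟨x.2, ?_⟩
    rintro _ ⟨y, hy, rfl⟩
    exact congrArg Subtype.val (hx y hy)
  rw [e₁, e₂]
  refine ⟨fun E hE => ?_, fun hne E hE ⟨hc, hx, _⟩ => ?_⟩
  · have hES := hE.1.1
    haveI : Finite E := Finite.of_injective _ (Subgroup.inclusion_injective hES)
    have hD := Ess.essData hS hF hE
    rcases Ess.main n hK h h4 hF' _ (hE' E hE) with e | e | e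
    · rcases e.of_equiv (Subgroup.subgroupOfEquivOfLe hES) with hc | ⟨hc, hna⟩
      · obtain ⟨j, h₁, h₂, h₃⟩ := hD.index_frattini_cases hc
        obtain rfl : j = 2 := by omega
        have := Ess.comm_of_pow_eq_one_of_frattini hD.hG (Subgroup.card_eq_one.1 (by
          simpa using Ess.card_eq_of_index (m := 0) hp'.pos (by simpa using hc) h₃))
        exact Or.inl ⟨hc, ⟨⟨fun x y => (this.1 x y).eq⟩⟩, fun x hx =>
          congrArg Subtype.val (this.2 ⟨x, hx⟩)⟩
      · haveI : Nontrivial E := Finite.one_lt_card_iff_nontrivial.1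
          (hc ▸ Nat.one_lt_pow (by norm_num) hp'.one_lt)
        refine Or.inr (Or.inl ⟨hc, Ess.isExtraspecial_of_card hc hna, ?_⟩)
        obtain ⟨e, -⟩ | ⟨h2, -, e⟩ | ⟨h2, e⟩ := hD.card_three hc
        exacts [absurd e hna, ⟨fun _ => (Monoid.exponent_eq_prime_iff hp').2 fun g hg =>
          orderOf_eq_prime (e g) hg, fun e' => absurd e' h2⟩, ⟨fun e' => absurd h2 e', fun _ => e⟩]
    · exact Or.inr (Or.inr (Or.inl (by rw [← e, Subgroup.map_subgroupOf_eq_of_le hES])))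
    · exact Or.inr (Or.inr (Or.inr (by rw [← e, Subgroup.map_subgroupOf_eq_of_le hES])))
  · have hexc := mt (hK.cent_eq h h4) fun e => hne (by rw [e])
    have e := Subgroup.subgroupOfEquivOfLe hE.1.1
    have hab := hK.not_extraspecial h h4 (fun h2 => hexc (eq_bot_iff.2
      ((Subgroup.commutator_mono le_rfl ((Ess.lcs_anti (by omega)).trans hK.le)).trans
        (hK.comm_eq_bot h h4 h2).le))) hexc hF' (hE' E hE) ((Nat.card_congr e.toEquiv).trans hc)
    have : Subgroup.center E = ⊤ := eq_top_iff.2 fun x _ => Subgroup.mem_center_iff.2 fun y => by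
      simpa using ((hab (e.symm y) (e.symm x)).map e).eq
    have h₁ := hx.2
    rw [this, Subgroup.card_top, hc] at h₁
    exact absurd (Nat.pow_right_injective hp'.two_le (h₁.trans (pow_one p).symm)) (by norm_num)

end Cfsg.Agent.S5267
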