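import Cfsg.Statements.S5269
import Cfsg.Agent.Lib.MC.Norm

set_option autoImplicit false
open Cfsg

namespace Cfsg.Agent.S5269

/-- Let p ≥ 5 be a prime, S a finite p-group of maximal class of order p^n with n ≥ 4, F a saturated fusion system over S, and E an F-essential subgroup that is normal in S. Then E has index p in S; moreover E is the two-step centralizer Γ₁ = C_S([S,S]/γ₄(S)) or E = C_S(Z₂(S)), unless S has order p^4 and E is extraspecial of order p³ and exponent p. -/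
theorem result {Ω : Type*} [Group Ω] {S : Subgroup Ω} [Finite S] (p : ℕ) [Fact p.Prime] (hS : IsPGroup p ↥S) (n : ℕ) (hn : Nat.card S = p ^ n) (h4 : 4 ≤ n) (hmax : Subgroup.lowerCentralSeries S (n - 2) ≠ ⊥) (F : Cfsg.FusionSystem S) (hF : F.IsSaturated p) (hp : 5 ≤ p) (Γ₁ : Subgroup Ω) (hΓ₁ : ∀ x : Ω, x ∈ Γ₁ ↔ x ∈ S ∧ ∀ y ∈ Subgroup.lowerCentralSeries S 1, x * y * x⁻¹ * y⁻¹ ∈ Subgroup.lowerCentralSeries S 3) (E : Subgroup Ω) (hE : F.IsEssential p E) (hEn : (E.subgroupOf S).Normal) : (E.subgroupOf S).index = p ∧ (E = Γ₁ ∨ E = (S ⊓ Subgroup.centralizer (((Subgroup.upperCentralSeries ↥S 2).map S.subtype) : Set Ω)) ∨ (n = 4 ∧ Nat.card ↥E = p ^ 3 ∧ Cfsg.IsExtraspecial p ↥E ∧ Monoid.exponent ↥E = p)) := by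
  have h : Ess.MaxCl p n S := ⟨hn, by omega, mt Ess.lcs_eq_bot_iff.1 hmax⟩
  obtain ⟨K, hK⟩ := h.exists_twoStep h4
  obtain ⟨h₁, h₂⟩ := Ess.normal_essential hS hF h hp h4 hE hEn hK
  have hES := hE.1.1
  refine ⟨h₁, h₂.imp (fun e => ?_) (Or.imp_left fun e => ?_)⟩
  · ext x
    rw [hΓ₁, ← Ess.lcs_map_subtype, ← Ess.lcs_map_subtype]
    refine ⟨fun hx => ⟨hES hx, ?_⟩, fun ⟨hx, hx'⟩ => ?_⟩
    · rintro _ ⟨y, hy, rfl⟩
      exact ⟨_, (hK.mem_iff h h4).1 (e.le (show (⟨x, hES hx⟩ : S) ∈ E.subgroupOf S from hx)) y hy,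
        rfl⟩
    · refine e.ge ((hK.mem_iff h h4 (g := ⟨x, hx⟩)).2 fun y hy => ?_)
      obtain ⟨z, hz, e'⟩ := hx' y ⟨y, hy, rfl⟩
      have e'' : z = ⟨x, hx⟩ * y * ⟨x, hx⟩⁻¹ * y⁻¹ := Subtype.ext e'
      rw [e''] at hz
      exact hz
  · rw [h.ucs_eq h4, show n - 1 - 2 = n - 3 by omega]
    ext x
    refine ⟨fun hx => ⟨hES hx, ?_⟩, fun ⟨hx, hx'⟩ => ?_⟩
    · rintro _ ⟨y, hy, rfl⟩
      exact congrArg Subtype.val
        (e.le (show (⟨x, hES hx⟩ : S) ∈ E.subgroupOf S from hx) y hy)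
    · exact e.ge (show (⟨x, hx⟩ : S) ∈ _ from fun y hy => Subtype.ext (hx' y ⟨y, hy, rfl⟩))

end Cfsg.Agent.S5269
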