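import Cfsg.Statements.S5299
import Cfsg.Agent.Lib.Fus.Group

set_option autoImplicit false
universe u
open Cfsg

namespace Cfsg.Agent.S5299

theorem involves_of {H G P : Type*} [Group H] [Group G] [Group P] (i : P →* G)
    (hi : Function.Injective i) (f : P →* H) (hf : Function.Surjective f) : Involves H G := by
  let g : i.range →* H := f.comp (MonoidHom.ofInjective hi).symm.toMonoidHom
  have hg : Function.Surjective g := hf.comp (MonoidHom.ofInjective hi).symm.surjective
  have e : (g.ker.map i.range.subtype).subgroupOf i.range = g.ker :=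
    Subgroup.comap_map_eq_self_of_injective i.range.subtype_injective _
  have hn : ((g.ker.map i.range.subtype).subgroupOf i.range).Normal := by rw [e]; infer_instance
  refine ⟨i.range, g.ker.map i.range.subtype, hn, ⟨?_⟩⟩
  exact (QuotientGroup.quotientMulEquivOfEq e).trans (QuotientGroup.quotientKerEquivOfSurjective g hg)


/-- Let F be a saturated fusion system over a finite p-group S, H a finite group and Q a p-subgroup of H. If Q is not involved in S (no section of S is isomorphic to Q), then F is H-free: H is involved in no model of the normalizer system of a fully normalized centric subgroup. -/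
theorem result {Ω : Type u} [Group Ω] {S : Subgroup Ω} [Finite S] (p : ℕ) [Fact p.Prime] (hS : IsPGroup p S)
    (F : Cfsg.FusionSystem S) (hF : F.IsSaturated p) (H : Type*) [Group H] [Finite H] (Q : Subgroup H) (hQ : IsPGroup p Q)
    (hfree : ¬ Cfsg.Involves (↥Q) (↥S)) : F.IsSectionFree p H := by
  rintro U - - N - L _ ι ⟨_, hι, ⟨T, hT⟩, -⟩ ⟨K, R, _, ⟨e⟩⟩
  let π : K →* H := e.toMonoidHom.comp (QuotientGroup.mk' _)
  have hπ : Function.Surjective π := e.surjective.comp (QuotientGroup.mk'_surjective _)
  obtain ⟨A, hA⟩ := Fus.exists_isSylowIn p (Q.comap π)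
  have h1 := hA.map π
  rw [Subgroup.map_comap_eq_self_of_surjective hπ] at h1
  have h2 : Q = A.map π := h1.eq_of_le hQ h1.le le_rfl
  obtain ⟨g, -, hg⟩ := (Fus.isSylowIn_top T).exists_conj_mem (hA.isPGroup.map K.subtype) le_top
  rw [hT] at hg
  let j : A →* ι.range := ((MulAut.conj g).toMonoidHom.comp (K.subtype.comp A.subtype)).codRestrict _
    fun a => hg _ ⟨a, a.2, rfl⟩
  have hj : Function.Injective j := fun a b e => by
    have : g * (a : K) * g⁻¹ = g * (b : K) * g⁻¹ := congrArg Subtype.val e
    exact Subtype.ext (Subtype.ext (mul_left_cancel (mul_right_cancel this)))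
  refine hfree (involves_of ((Subgroup.inclusion (Fus.normalizerIn_le U)).comp
    ((MonoidHom.ofInjective hι.1).symm.toMonoidHom.comp j)) ?_
    ((π.comp A.subtype).codRestrict Q fun a => hA.le a.2) fun ⟨q, hq⟩ => ?_)
  · exact (Subgroup.inclusion_injective (Fus.normalizerIn_le U)).comp
      ((MonoidHom.ofInjective hι.1).symm.injective.comp hj)
  · obtain ⟨a, ha, rfl⟩ := h2 ▸ hq
    exact ⟨⟨a, ha⟩, rfl⟩

end Cfsg.Agent.S5299
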