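import Cfsg.Statements.S5313
import Cfsg.Agent.Lib.LT.Psl
import Cfsg.Agent.S5308
import Cfsg.Agent.S5309

set_option autoImplicit false
open Cfsg

namespace Cfsg.Agent.S5313


/-- Let q be odd, n ≥ 2, with q ≡ 1 or 7 (mod 8) if n = 2, and F a field with q elements. Let G be a finite nonabelian simple group with Sylow 2-subgroup S. If some generalized Fitting subsystem of the 2-fusion system of G on S, over U, is isomorphic to the 2-fusion system of PSL_n(q) (realized by an injective homomorphism of U onto a Sylow 2-subgroup of PSL_n(F)), then the 2-fusion system of G itself is isomorphic to that of PSL_n(q). -/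
theorem result {G : Type*} [Group G] [Finite G]
    [IsSimpleGroup G] (hG : ¬ IsMulCommutative G) (S : Sylow 2 G) (n : ℕ) (hn : 2 ≤ n) {F : Type*} [Field F] [Fintype F]
    (q : ℕ) (hFq : Fintype.card F = q) (hq : Odd q) (h2 : n = 2 → q % 8 = 1 ∨ q % 8 = 7)
    {U : Subgroup G} (D : Cfsg.FusionSystem U) (hD : D.IsGeneralizedFittingOf (Cfsg.groupFusionSystem (S : Subgroup G)) 2)
    (hiso : ∃ ι : ↥U →* Matrix.ProjectiveSpecialLinearGroup (Fin n) F, D.IsRealizedBy ι ∧
      ∃ T' : Sylow 2 (Matrix.ProjectiveSpecialLinearGroup (Fin n) F), (T' : Subgroup (Matrix.ProjectiveSpecialLinearGroup (Fin n) F)) = ι.range) :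
    ∃ ι : ↥(S : Subgroup G) →* Matrix.ProjectiveSpecialLinearGroup (Fin n) F,
      (Cfsg.groupFusionSystem (S : Subgroup G)).IsRealizedBy ι ∧
        ∃ T' : Sylow 2 (Matrix.ProjectiveSpecialLinearGroup (Fin n) F), (T' : Subgroup (Matrix.ProjectiveSpecialLinearGroup (Fin n) F)) = ι.range := by
  subst hFq
  obtain ⟨ι, h1, T, h3⟩ := hiso
  have hF := Fus.group_isSaturated S
  obtain ⟨h4, h5⟩ := LT.psl_simple_perfect hn h2
  refine LT.red hG (LT.star_psl hn hq h2) ((S5308.result 2 S.isPGroup' _ hF).2 U D hD) h1 ⟨T, h3⟩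
    fun Y h6 h7 => ?_
  have := (S5309.result 2 S.isPGroup' _ hF D hD).2 Y h6 h7
  rwa [LT.center_eq_bot h1 h3, le_bot_iff] at this

end Cfsg.Agent.S5313
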