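import Cfsg.Statements.S5316
import Cfsg.Agent.Lib.MC.Cube

set_option autoImplicit false
open Cfsg

namespace Cfsg.Agent.S5316

/-- Let p ≥ 5 be a prime, S a finite p-group of maximal class of order p^n with n ≥ 5 (nilpotency class n − 1), F a saturated fusion system over S, and E an F-essential subgroup that is not a pearl (not elementary abelian of order p² and not extraspecial of order p³ and exponent p). Then E has order at least p⁴. -/
theorem result {Ω : Type*} [Group Ω] {S : Subgroup Ω} [Finite S] (p : ℕ) [Fact p.Prime] (hp : 5 ≤ p) (hS : IsPGroup p ↥S) (n : ℕ) (hn : Nat.card S = p ^ n) (h5 : 5 ≤ n)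
    (hmax : Subgroup.lowerCentralSeries S (n - 2) ≠ ⊥) (F : Cfsg.FusionSystem S) (hF : F.IsSaturated p)
    (E : Subgroup Ω) (hE : F.IsEssential p E)
    (hnp : ¬ ((Nat.card ↥E = p ^ 2 ∧ Cfsg.IsElementaryAbelian p E) ∨ (Nat.card ↥E = p ^ 3 ∧ Cfsg.IsExtraspecial p ↥E ∧ Monoid.exponent ↥E = p))) :
    p ^ 4 ≤ Nat.card ↥E := by
  have hp' : p.Prime := Fact.out
  obtain ⟨m, rfl⟩ : ∃ m, n = m + 5 := ⟨n - 5, by omega⟩
  have h : Ess.MaxCl p (m + 5) S := ⟨hn, by omega, mt Ess.lcs_eq_bot_iff.1 hmax⟩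
  obtain ⟨K, hK⟩ := h.exists_twoStep (by omega)
  have hES := hE.1.1
  haveI : Finite E := Finite.of_injective _ (Subgroup.inclusion_injective hES)
  have hD := Ess.essData hS hF hE
  obtain ⟨k, hk⟩ := IsPGroup.iff_card.1 hD.hG
  by_contra hlt
  have hk4 : k < 4 := by
    by_contra e
    exact hlt (hk ▸ Nat.pow_le_pow_right hp'.pos (by omega))
  obtain ⟨j, hj, hjk, -⟩ := hD.index_frattini_cases hk
  obtain rfl | rfl : k = 2 ∨ k = 3 := by omega
  · refine hnp (Or.inl ⟨hk, ?_⟩)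
    obtain e | e := Ess.pearl_of_prl hS hF (by omega) hE (Or.inl hk)
    · exact e.1
    · exact absurd (hk.symm.trans e.2.1)
        (Nat.pow_lt_pow_right hp'.one_lt (show 2 < 3 by norm_num)).ne
  · obtain ⟨hab, hel⟩ | ⟨-, hx, hel⟩ | ⟨h2, -⟩ := hD.card_three hk
    · obtain ⟨F', hF', hE'⟩ := Ess.exists_top hS hF
      refine Ess.not_cube hF' hK h hp (hE' E hE) ?_ ?_ ?_
      · rw [← hk]; exact Nat.card_congr (Subgroup.subgroupOfEquivOfLe hES).toEquiv
      · exact fun x hx y hy =>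
          Subtype.ext (congrArg (Subtype.val : E → Ω) (hab ⟨x, hx⟩ ⟨y, hy⟩).eq)
      · exact fun x hx => Subtype.ext (congrArg (Subtype.val : E → Ω) (hel ⟨x, hx⟩))
    · haveI : Nontrivial E := Finite.one_lt_card_iff_nontrivial.1
        (hk ▸ Nat.one_lt_pow (by norm_num) hp'.one_lt)
      exact hnp (Or.inr ⟨hk, hx, (Monoid.exponent_eq_prime_iff hp').2 fun g hg =>
        orderOf_eq_prime (hel g) hg⟩)
    · omega

end Cfsg.Agent.S5316
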