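import Cfsg.Statements.S5343
import Cfsg.Agent.Lib.Fus2.NormalSub

set_option autoImplicit false
universe u
open Cfsg

namespace Cfsg.Agent.S5343

open Cfsg.FusionSystem Fus2 in
theorem aux {Ω : Type u} [Group Ω] {S : Subgroup Ω} [Finite S] (p : ℕ) [Fact p.Prime]
    (hS : IsPGroup p S) (F : Cfsg.FusionSystem S) (hsimple : F.IsSimple p) (n : ℕ) :
    ∀ (G : Type u) [Group G] [Finite G] (T : Sylow p G) (a : Ω → G) (b : G → Ω), Nat.card G = n →
      IsoM F (groupFusionSystem (T : Subgroup G)) a b →
      ∃ (G : Type u) (_ : Group G) (_ : Finite G) (_ : IsSimpleGroup G) (ι : ↥S →* G),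
        F.IsRealizedBy ι ∧ ∃ T : Sylow p G, (T : Subgroup G) = ι.range := by
  induction n using Nat.strong_induction_on with
  | _ n ih =>
  intro G _ _ T a b hn h
  by_cases hcore : pPrimeCore p G = ⊥
  · by_cases hmin : ∀ (H : Subgroup G) (hSH : (T : Subgroup G) ≤ H), H ≠ ⊤ → ∃ P : Subgroup G,
        (fusionSystemOfSubgroup H (T : Subgroup G) hSH).Hom P ≠
          (groupFusionSystem (T : Subgroup G)).Hom P
    · exact ⟨G, _, inferInstance, isSimpleGroup_of_isSimple T (h.isSimple hS hsimple) hcore hmin, _,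
        h.isRealizedBy.1, T, h.isRealizedBy.2.symm⟩
    · push Not at hmin
      obtain ⟨H, hTH, hne, e⟩ := hmin
      obtain ⟨c, hc⟩ := exists_isoM_sub H.subtype H.subtype_injective
        (le_top : (T : Subgroup G).subgroupOf H ≤ ⊤)
        (by rw [← MonoidHom.range_eq_map, Subgroup.range_subtype])
        (Subgroup.map_subgroupOf_eq_of_le hTH) hTH
      rw [fusionSystem_ext e, ← group_eq_sub] at hc
      refine ih (Nat.card H) ?_ H (T.subtype hTH) _ _ rfl (h.trans hc.symm)
      rw [← hn, ← Subgroup.card_top (G := G)]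
      exact card_lt_of_lt (lt_top_iff_ne_top.2 hne)
  · obtain ⟨c, hc⟩ := exists_isoM_group (QuotientGroup.mk' (pPrimeCore p G))
      (QuotientGroup.mk'_surjective _) T (by
        rw [QuotientGroup.ker_mk']
        exact (Fit.disjoint_pPrimeCore T.2).eq_bot)
    refine ih (Nat.card (G ⧸ pPrimeCore p G)) ?_ _
      (T.mapSurjective (QuotientGroup.mk'_surjective _)) _ _ rfl (h.trans hc)
    rw [← hn, Subgroup.card_eq_card_quotient_mul_card_subgroup (pPrimeCore p G)]
    exact lt_mul_of_one_lt_right Nat.card_pos ((Subgroup.one_lt_card_iff_ne_bot _).2 hcore)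


/-- Let F be a simple saturated fusion system over a finite p-group S that is realized by some finite group on a Sylow p-subgroup. Then F is realized by a finite simple group on a Sylow p-subgroup. -/
theorem result {Ω : Type u} [Group Ω] {S : Subgroup Ω} [Finite S] (p : ℕ) [Fact p.Prime] (hS : IsPGroup p S) (F : Cfsg.FusionSystem S) (hsimple : F.IsSimple p) (hreal : F.IsRealizable p) : ∃ (G : Type u) (_ : Group G) (_ : Finite G) (_ : IsSimpleGroup G) (ι : ↥S →* G), F.IsRealizedBy ι ∧ ∃ T : Sylow p G, (T : Subgroup G) = ι.range := by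
  obtain ⟨G, _, _, ι, h, T, hT⟩ := hreal
  obtain ⟨b, hb⟩ := (Fus2.isRealizedBy_iff_isoM hT.symm).1 h
  exact aux p hS F hsimple _ G T _ _ rfl hb

end Cfsg.Agent.S5343
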